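import Cfsg.Agent.Lib.Chevalley.Singer.Weights

/-!
Residue vectors which are eigenvectors of an element of the Weyl group and orthogonal to given roots:
they form a pure subgroup.
-/

set_option autoImplicit false
set_option linter.style.haveILetI false

open scoped Matrix

namespace Cfsg.Agent.SimpleFacts.AbelianSylow.Lattice

open Cfsg.Lie Cfsg.Agent.Chevalley.Table Cfsg.Agent.Chevalley.Check Cfsg.Agent.Chevalley.Cert
  Cfsg.Agent.Chevalley.Group Cfsg.Agent.Chevalley.TorusCard Cfsg.Agent.Chevalley.WeylGroup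
  Cfsg.Agent.Chevalley.WeylEnum Cfsg.Agent.Chevalley.Singer

variable {D : ChevalleyDatum} {T : Tab}

/-- The pairing of a residue vector with a root. -/
def ev {R : Type*} [CommRing R] (v : Fin D.rank → R) (s : ℕ) : R :=
  v ⬝ᵥ fun i => (lam D s i : R)

theorem ev_add {R : Type*} [CommRing R] (v w : Fin D.rank → R) (s : ℕ) :
    ev (v + w) s = ev v s + ev w s := add_dotProduct _ _ _

theorem ev_smul {R : Type*} [CommRing R] (a : R) (v : Fin D.rank → R) (s : ℕ) :
    ev (a • v) s = a * ev v s := smul_dotProduct _ _ _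

/-- The eigenvectors orthogonal to the roots in `S`. -/
def eig {R : Type*} [CommRing R] (L : List ℕ) (q : R) (S : Finset ℕ) : AddSubgroup (Fin D.rank → R) where
  carrier := {v | v ᵥ* (wMat D L).map Int.cast = q • v ∧ ∀ s ∈ S, ev v s = 0}
  zero_mem' := ⟨by simp, fun s _ => by simp [ev]⟩
  add_mem' := fun {a b} ha hb => ⟨by rw [Matrix.add_vecMul, ha.1, hb.1, smul_add],
    fun s hs => by rw [ev_add, ha.2 s hs, hb.2 s hs, add_zero]⟩
  neg_mem' := fun {a} ha => ⟨by rw [Matrix.neg_vecMul, ha.1, smul_neg],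
    fun s hs => by rw [show ev (-a) s = -ev a s from neg_dotProduct _ _, ha.2 s hs, neg_zero]⟩

variable (hC : Certified D T)
include hC

theorem ev_vecMul {R : Type*} [CommRing R] (v : Fin D.rank → R) {L : List ℕ}
    (hL : ∀ i ∈ L, i < D.rank) {s : ℕ} (hs : s < D.nroots) :
    ev (v ᵥ* (wMat D L).map Int.cast) s = ev v (wL D L s) := by
  rw [ev, ev, ← Matrix.dotProduct_mulVec, ← wMat_lam hC hL hs]
  congr 1
  funext i
  simp [Matrix.mulVec, dotProduct]

omit hC in
/-- A vector is determined by its pairings with the fundamental roots. -/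
theorem ev_ext {R : Type*} [CommRing R] (hu : IsUnit (((cartanMat D).det : ℤ) : R))
    {v w : Fin D.rank → R} (h : ∀ j : Fin D.rank, ev v (D.simple j) = ev w (D.simple j)) : v = w := by
  have hd : IsUnit ((cartanMat D)ᵀ.map (Int.cast : ℤ → R)).det := by
    rw [show ((cartanMat D)ᵀ.map (Int.cast : ℤ → R)).det = (((cartanMat D)ᵀ.det : ℤ) : R) from
      ((Int.castRingHom R).map_det _).symm, Matrix.det_transpose]
    exact hu
  have h1 : v ᵥ* (cartanMat D)ᵀ.map Int.cast = w ᵥ* (cartanMat D)ᵀ.map Int.cast :=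
    funext fun j => h j
  have h2 := congrArg (· ᵥ* ((cartanMat D)ᵀ.map (Int.cast : ℤ → R))⁻¹) h1
  simpa [Matrix.vecMul_vecMul, Matrix.mul_nonsing_inv _ hd] using h2

omit hC in
theorem map_wMat_pow {R : Type*} [CommRing R] (L : List ℕ) (k : ℕ) :
    (wMat D L ^ k).map (Int.cast : ℤ → R) = (wMat D L).map Int.cast ^ k :=
  map_pow (Int.castRingHom R).mapMatrix _ k

theorem mem_eig_iff {R : Type*} [CommRing R] (hu : IsUnit (((cartanMat D).det : ℤ) : R)) {L : List ℕ}
    (hL : ∀ i ∈ L, i < D.rank) {q : R} {S : Finset ℕ} {v : Fin D.rank → R} :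
    v ∈ eig (D := D) L q S ↔
      (∀ s ∈ S, ev v s = 0) ∧ ∀ s < D.nroots, ev v (wL D L s) = q * ev v s := by
  constructor
  · rintro ⟨h1, h2⟩
    exact ⟨h2, fun s hs => by rw [← ev_vecMul hC v hL hs, h1, ev_smul]⟩
  · rintro ⟨h1, h2⟩
    exact ⟨ev_ext hu fun j => by
      rw [ev_vecMul hC v hL (hC.simple_lt j.2), ev_smul, h2 _ (hC.simple_lt j.2)], h1⟩

theorem exists_word (g : WG hC) :
    ∃ L : List ℕ, (∀ i ∈ L, i < D.rank) ∧
      ∀ s : Fin D.nroots, ((g : Equiv.Perm (Fin D.nroots)) s : ℕ) = wL D L s := by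
  obtain ⟨L, rfl⟩ := gW_gen hC g
  exact ⟨L.map Fin.val, valid hC L, fun s => wordG_apply hC L s⟩

/-- The reflection in a root, as a word. -/
theorem exists_reflection {α : ℕ} (hα : α < D.nroots) :
    ∃ N : List ℕ, (∀ i ∈ N, i < D.rank) ∧ wL D N α = D.neg α ∧
      ∀ s < D.nroots, ∃ c : ℤ, lam D (wL D N s) = lam D s - c • lam D α := by
  refine Cfsg.Agent.Chevalley.Root.simple_induction hC (P := fun α => ∃ N : List ℕ, (∀ i ∈ N, i < D.rank) ∧
    wL D N α = D.neg α ∧ ∀ s < D.nroots, ∃ c : ℤ, lam D (wL D N s) = lam D s - c • lam D α)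
    (fun i hi => ?_) (fun r hr i hi ih => ?_) α hα
  · refine ⟨[i], by simpa using hi, hC.reflect_simple hi, fun s hs => ⟨D.cartan i s, ?_⟩⟩
    funext j
    simp only [Pi.sub_apply, Pi.smul_apply, lam, smul_eq_mul]
    exact hC.cartan_reflect hi j.2 hs
  · obtain ⟨N, hN, he, hf⟩ := ih
    have hN' : ∀ a ∈ [i] ++ N ++ [i], a < D.rank := fun a ha => by
      simp only [List.mem_append, List.mem_singleton] at ha
      rcases ha with (rfl | h) | rfl
      exacts [hi, hN a h, hi]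
    have hl : ∀ a ∈ [i], a < D.rank := by simpa using hi
    have hw : ∀ s, wL D ([i] ++ N ++ [i]) s = D.reflectRoot i (wL D N (D.reflectRoot i s)) := fun s => by
      rw [wL_append, wL_append]; rfl
    refine ⟨[i] ++ N ++ [i], hN', ?_, fun s hs => ?_⟩
    · rw [hw, hC.reflect_reflect hi hr, he]
      exact wL_neg hC hl hr
    · have hs' := hC.reflect_lt hi hs
      obtain ⟨c, hc⟩ := hf _ hs'
      refine ⟨c, ?_⟩
      rw [hw, ← refMat_lam hC hi (wL_lt hC hN hs'), hc, Matrix.mulVec_sub, Matrix.mulVec_smul,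
        refMat_lam hC hi hs', hC.reflect_reflect hi hs, refMat_lam hC hi hr]

/-- **Purity**: an eigenvector killed by `r ^ (m - 1)` is `r` times an eigenvector. -/
theorem pure {r m d : ℕ} [Fact r.Prime] (hr2 : r ≠ 2) (hm : 1 ≤ m)
    (hu : IsUnit (((cartanMat D).det : ℤ) : ZMod (r ^ m))) (hdet : (cartanMat D).det ≠ 0)
    (hW : ¬ r ∣ Nat.card (WG hC)) (hd : ¬ r ∣ d) {L : List ℕ} (hL : ∀ i ∈ L, i < D.rank)
    {q : ℕ} (hq : (q : ZMod (r ^ m)) ^ d = 1) {S : Finset ℕ} (hS : ∀ s ∈ S, s < D.nroots)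
    {v : Fin D.rank → ZMod (r ^ m)} (hv : v ∈ eig (D := D) L (q : ZMod (r ^ m)) S)
    (hv' : r ^ (m - 1) • v = 0) :
    ∃ w ∈ eig (D := D) L (q : ZMod (r ^ m)) S, r • w = v := by
  classical
  have hr : r.Prime := Fact.out
  haveI : NeZero (r ^ m) := ⟨pow_ne_zero _ hr.ne_zero⟩
  obtain ⟨V, hV⟩ : ∃ V, V = eig (D := D) L (q : ZMod (r ^ m)) S := ⟨_, rfl⟩
  rw [← hV] at hv ⊢
  have hVev : ∀ u ∈ V, ∀ s < D.nroots, ev u (wL D L s) = (q : ZMod (r ^ m)) * ev u s := fun u hu' =>
    ((mem_eig_iff hC hu hL).1 (hV ▸ hu')).2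
  have hdvd : ∀ i, r ∣ (v i).val := fun i => by
    have h1 := congrFun hv' i
    rw [Pi.smul_apply, Pi.zero_apply, ← ZMod.natCast_zmod_val (v i), nsmul_eq_mul, ← Nat.cast_mul,
      ZMod.natCast_eq_zero_iff] at h1
    have h2 : r ^ (m - 1) * r ∣ r ^ (m - 1) * (v i).val := by
      refine (dvd_of_eq ?_).trans h1
      rw [← pow_succ]; congr 1; omega
    exact (Nat.mul_dvd_mul_iff_left (pow_pos hr.pos _)).1 h2
  obtain ⟨w0, hw0⟩ : ∃ w0 : Fin D.rank → ZMod (r ^ m), r • w0 = v :=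
    ⟨fun i => (((v i).val / r : ℕ) : ZMod (r ^ m)), funext fun i => by
      rw [Pi.smul_apply, nsmul_eq_mul, ← Nat.cast_mul, Nat.mul_div_cancel' (hdvd i),
        ZMod.natCast_zmod_val]⟩
  -- the Weyl elements fixing all eigenvectors
  let Γ : Subgroup (WG hC) :=
    { carrier := {g | ∀ u ∈ V, ∀ s : Fin D.nroots,
        ev u ((g : Equiv.Perm (Fin D.nroots)) s : ℕ) = ev u (s : ℕ)}
      one_mem' := fun u _ s => rfl
      mul_mem' := fun {a b} ha hb u hu' s => by
        rw [Subgroup.coe_mul, Equiv.Perm.mul_apply, ha u hu', hb u hu']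
      inv_mem' := fun {a} ha u hu' s => by
        have h1 := ha u hu' (((a⁻¹ : WG hC) : Equiv.Perm (Fin D.nroots)) s)
        rw [Subgroup.coe_inv, Equiv.Perm.inv_def, Equiv.apply_symm_apply] at h1
        exact h1.symm }
  haveI : Fintype Γ := Fintype.ofFinite _
  choose wd hwd hwd' using fun g : Γ => exists_word hC (g : WG hC)
  obtain ⟨z, hz⟩ : ∃ z : Fin D.rank → ZMod (r ^ m),
      z = ∑ g : Γ, w0 ᵥ* (wMat D (wd g)).map Int.cast := ⟨_, rfl⟩
  have hevz : ∀ s : Fin D.nroots, ev z (s : ℕ) =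
      ∑ g : Γ, ev w0 (((g : WG hC) : Equiv.Perm (Fin D.nroots)) s : ℕ) := fun s => by
    rw [hz, ev, sum_dotProduct]
    exact Finset.sum_congr rfl fun g _ => by rw [hwd']; exact ev_vecMul hC w0 (hwd g) s.2
  have hrz : r • z = Fintype.card Γ • v := by
    rw [hz, Finset.smul_sum, ← Finset.card_univ, ← Finset.sum_const]
    refine Finset.sum_congr rfl fun g _ => ?_
    rw [← Matrix.smul_vecMul, hw0]
    refine ev_ext hu fun j => ?_
    rw [ev_vecMul hC v (hwd g) (hC.simple_lt j.2)]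
    have h1 := g.2 v hv ⟨D.simple j, hC.simple_lt j.2⟩
    rw [hwd'] at h1
    exact h1
  have h2u : IsUnit ((2 : ℕ) : ZMod (r ^ m)) := by
    rw [ZMod.isUnit_iff_coprime]
    exact Nat.Coprime.pow_right _ ((Nat.coprime_primes Nat.prime_two hr).2 (Ne.symm hr2))
  have hzero : ∀ α < D.nroots, (∀ u ∈ V, ev u α = 0) → ev z α = 0 := by
    intro α hα hVα
    obtain ⟨N, hN, hNα, hNf⟩ := exists_reflection hC hα
    obtain ⟨N', rfl⟩ : ∃ N' : List (Fin D.rank), N'.map Fin.val = N :=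
      ⟨N.pmap (fun a h => (⟨a, h⟩ : Fin D.rank)) hN, by simp [List.map_pmap]⟩
    have hmem : wordG hC N' ∈ Γ := by
      intro u hu' s
      obtain ⟨c, hc⟩ := hNf s s.2
      rw [wordG_apply, ev, hc, ev]
      rw [show (fun i => (((lam D s - c • lam D α) i : ℤ) : ZMod (r ^ m))) =
        (fun i => (lam D s i : ZMod (r ^ m))) - (c : ZMod (r ^ m)) • fun i => (lam D α i : ZMod (r ^ m))
          from funext fun i => by simp, dotProduct_sub, dotProduct_smul]
      have h0 : u ⬝ᵥ (fun i => (lam D α i : ZMod (r ^ m))) = 0 := hVα u hu'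
      rw [h0, smul_zero, sub_zero]
    have h1 : ev z α = ev z (D.neg α) := by
      have hn : (((wordG hC N' : WG hC) : Equiv.Perm (Fin D.nroots)) ⟨α, hα⟩) =
          ⟨D.neg α, hC.neg_lt hα⟩ := Fin.ext (by rw [wordG_apply]; exact hNα)
      have h2 := hevz ⟨α, hα⟩
      have h3 := hevz ⟨D.neg α, hC.neg_lt hα⟩
      dsimp only at h2 h3
      rw [h2, h3, ← Equiv.sum_comp (Equiv.mulRight (⟨wordG hC N', hmem⟩ : Γ))]
      refine Finset.sum_congr rfl fun g _ => ?_
      rw [← hn]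
      rfl
    have hneg : ev z (D.neg α) = -ev z α := by
      rw [ev, ev, ← dotProduct_neg]
      congr 1
      funext i
      rw [Pi.neg_apply, ← Int.cast_neg]
      congr 1
      exact hC.cartan_neg hα i.2
    rw [hneg, eq_neg_iff_add_eq_zero] at h1
    exact h2u.mul_right_eq_zero.1 (by rw [Nat.cast_two, two_mul]; exact h1)
  -- averaging over the powers of the word
  obtain ⟨H, hH⟩ : ∃ H, H = Nat.card (WG hC) * d := ⟨_, rfl⟩
  obtain ⟨M, hM⟩ : ∃ M, M = (wMat D L).map (Int.cast : ℤ → ZMod (r ^ m)) := ⟨_, rfl⟩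
  have hMH : M ^ H = 1 := by
    rw [hM, ← map_wMat_pow, hH, pow_mul, wMat_pow_card hC hdet hL, one_pow]
    exact map_one (Int.castRingHom (ZMod (r ^ m))).mapMatrix
  have hd0 : d ≠ 0 := fun h => hd (h ▸ dvd_zero r)
  obtain ⟨q', hq'⟩ : ∃ q' : ZMod (r ^ m), q' = (q : ZMod (r ^ m)) ^ (d - 1) := ⟨_, rfl⟩
  have hqq : (q : ZMod (r ^ m)) * q' = 1 := by
    rw [hq', ← pow_succ', show d - 1 + 1 = d by omega, hq]
  have hq'H : q' ^ H = 1 := by
    rw [hq', ← pow_mul, hH, show (d - 1) * (Nat.card (WG hC) * d) = d * ((d - 1) * Nat.card (WG hC)) by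
      ring, pow_mul, hq, one_pow]
  have hunit : IsUnit ((H * Fintype.card Γ : ℕ) : ZMod (r ^ m)) := by
    rw [ZMod.isUnit_iff_coprime]
    refine Nat.Coprime.pow_right _ (Nat.Coprime.symm ((hr.coprime_iff_not_dvd).2 fun h => ?_))
    rcases hr.dvd_mul.1 h with h | h
    · rcases hr.dvd_mul.1 (hH ▸ h) with h | h
      exacts [hW h, hd h]
    · refine hW (h.trans ?_)
      rw [← Nat.card_eq_fintype_card]
      exact Subgroup.card_subgroup_dvd_card Γ
  obtain ⟨e, he⟩ := hunit.exists_left_inv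
  obtain ⟨f, hf⟩ : ∃ f : ℕ → Fin D.rank → ZMod (r ^ m), f = fun j => q' ^ j • (z ᵥ* M ^ j) := ⟨_, rfl⟩
  have hMv : ∀ k : ℕ, v ᵥ* M ^ k = (q : ZMod (r ^ m)) ^ k • v := by
    intro k
    induction k with
    | zero => simp
    | succ k ih =>
      have h1 : v ᵥ* M = (q : ZMod (r ^ m)) • v := hM ▸ (hV ▸ hv : v ∈ eig L _ S).1
      rw [pow_succ, ← Matrix.vecMul_vecMul, ih, Matrix.smul_vecMul, h1, smul_smul, pow_succ]
  refine ⟨e • ∑ j ∈ Finset.range H, f j, ?_, ?_⟩
  · rw [hV]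
    refine ⟨?_, fun s hs => ?_⟩
    · rw [← hM, Matrix.smul_vecMul, Matrix.sum_vecMul, smul_comm]
      congr 1
      have h1 : ∀ j, f j ᵥ* M = (q : ZMod (r ^ m)) • f (j + 1) := fun j => by
        simp only [hf]
        rw [Matrix.smul_vecMul, Matrix.vecMul_vecMul, ← pow_succ, smul_smul, pow_succ' q',
          ← mul_assoc, hqq, one_mul]
      rw [Finset.sum_congr rfl fun j _ => h1 j, ← Finset.smul_sum]
      congr 1
      have h2 := Finset.sum_range_succ' f H
      rw [Finset.sum_range_succ] at h2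
      have h3 : f H = f 0 := by simp [hf, hq'H, hMH]
      rw [h3, add_left_inj] at h2
      exact h2.symm
    · rw [ev_smul, ev, sum_dotProduct, Finset.sum_eq_zero, mul_zero]
      intro j _hjH
      simp only [hf]
      show ev (q' ^ j • (z ᵥ* M ^ j)) s = 0
      rw [ev_smul]
      obtain ⟨Lj, hLj⟩ : ∃ Lj, Lj = (List.replicate j L).flatten := ⟨_, rfl⟩
      have hLjr : ∀ i ∈ Lj, i < D.rank := fun i hi => by
        rw [hLj, List.mem_flatten] at hi
        obtain ⟨l, hl, hil⟩ := hi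
        rw [(List.mem_replicate.1 hl).2] at hil
        exact hL i hil
      have hMj : M ^ j = (wMat D Lj).map Int.cast := by
        rw [hM, ← map_wMat_pow, hLj]
        congr 1
        clear hLjr hLj _hjH
        induction j with
        | zero => simp [wMat]
        | succ j ih => rw [List.replicate_succ, List.flatten_cons, wMat_append, ← ih, pow_succ']
      rw [hMj, ev_vecMul hC z hLjr (hS s hs), hzero _ (wL_lt hC hLjr (hS s hs)), mul_zero]
      intro u hu'
      have h4 : ∀ k : ℕ, ev u (wL D (List.replicate k L).flatten s) = 0 ∧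
          wL D (List.replicate k L).flatten s < D.nroots := by
        intro k
        induction k with
        | zero => exact ⟨(hV ▸ hu' : u ∈ eig L _ S).2 s hs, hS s hs⟩
        | succ k ih =>
          rw [List.replicate_succ, List.flatten_cons, wL_append]
          exact ⟨by rw [hVev u hu' _ ih.2, ih.1, mul_zero], wL_lt hC hL ih.2⟩
      rw [hLj]
      exact (h4 j).1
  · rw [smul_comm, Finset.smul_sum]
    have h1 : ∀ j ∈ Finset.range H, r • f j = (Fintype.card Γ : ZMod (r ^ m)) • v := fun j _ => by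
      simp only [hf]
      rw [smul_comm, ← Matrix.smul_vecMul, hrz, Matrix.smul_vecMul, hMv, smul_comm, smul_smul,
        ← mul_pow, mul_comm q', hqq, one_pow, one_smul, Nat.cast_smul_eq_nsmul]
    rw [Finset.sum_congr rfl h1, Finset.sum_const, Finset.card_range, ← Nat.cast_smul_eq_nsmul (ZMod (r ^ m)),
      smul_smul, smul_smul, mul_assoc, ← Nat.cast_mul, he, one_smul]

end Cfsg.Agent.SimpleFacts.AbelianSylow.Lattice
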