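import Cfsg.Agent.Lib.Chevalley.FieldFix
import Cfsg.Agent.Lib.Chevalley.Singer.Torus

/-!
Pairs of torus elements conjugate by one element of a Chevalley group, and the elements of order prime to
the determinant of the Cartan matrix fixed by a field endomorphism.
-/

set_option autoImplicit false

open scoped Matrix

namespace Cfsg.Agent.SimpleFacts.AbelianSylow.Twist

open Cfsg.Lie Cfsg.Agent.Chevalley.Table Cfsg.Agent.Chevalley.Check Cfsg.Agent.Chevalley.Cert
  Cfsg.Agent.Chevalley.Group Cfsg.Agent.Chevalley.Unip Cfsg.Agent.Chevalley.Borel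
  Cfsg.Agent.Chevalley.Weyl Cfsg.Agent.Chevalley.NormalForm Cfsg.Agent.Chevalley.TorusCard
  Cfsg.Agent.Chevalley.FieldAut Cfsg.Agent.Chevalley.FieldFix Cfsg.Agent.Chevalley.Singer

variable {D : ChevalleyDatum} {T : Tab} (hC : Certified D T)
include hC

section Conj

variable {F : Type*} [Field F]

theorem prodX_conj (c : ℕ → Fˣ) (f : ℕ → F) : ∀ Ls : List ℕ, (∀ r ∈ Ls, r < D.nroots) →
    tor D c * prodX hC Ls f * (tor D c)⁻¹ = prodX hC Ls fun r => (torChar D c r : F) * f r := by
  intro Ls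
  induction Ls with
  | nil => intro _; simp [prodX]
  | cons r Ls ih =>
    intro h
    simp only [prodX, List.map_cons, List.prod_cons] at ih ⊢
    rw [show tor D c * (xg hC r (f r) * (Ls.map fun r => xg hC r (f r)).prod) * (tor D c)⁻¹ =
      tor D c * xg hC r (f r) * (tor D c)⁻¹ *
        (tor D c * (Ls.map fun r => xg hC r (f r)).prod * (tor D c)⁻¹) by group,
      ih fun a ha => h a (List.mem_cons_of_mem r ha)]
    congr 1
    exact tor_conj_x hC c r (f r) (h r List.mem_cons_self)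

/-- An element of `U` commutes with a torus element iff the characters of its roots are trivial. -/
theorem exists_support {v : GL D.Idx F} (hv : v ∈ D.posUnipotent F) :
    ∃ S : Finset ℕ, (∀ s ∈ S, s < D.nroots) ∧ ∀ c : ℕ → Fˣ,
      (tor D c * v * (tor D c)⁻¹ = v ↔ ∀ s ∈ S, torChar D c s = 1) := by
  classical
  obtain ⟨f, rfl⟩ := exists_prodX hC hv
  have hpos : ∀ r ∈ D.posRoots, r < D.nroots ∧ 0 < T.phi r := fun _ hr => (mem_posRoots hC).1 hr
  refine ⟨D.posRoots.toFinset.filter fun r => f r ≠ 0, fun s hs => ?_, fun c => ?_⟩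
  · exact (hpos s (List.mem_toFinset.1 (Finset.mem_filter.1 hs).1)).1
  rw [prodX_conj hC c f _ fun r hr => (hpos r hr).1]
  constructor
  · intro e s hs
    obtain ⟨hs1, hs2⟩ := Finset.mem_filter.1 hs
    have h := prodX_inj hC posRoots_sorted hpos e s (List.mem_toFinset.1 hs1)
    exact Units.ext (mul_right_cancel₀ hs2 (by rw [h, Units.val_one, one_mul]))
  · intro h
    rw [prodX, prodX]
    congr 1
    refine List.map_congr_left fun r hr => ?_
    by_cases h0 : f r = 0
    · rw [h0, mul_zero]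
    · rw [h r (Finset.mem_filter.2 ⟨List.mem_toFinset.2 hr, h0⟩), Units.val_one, one_mul]

/-- The pairs of torus elements conjugate by a given element: roots on which both are trivial, and a
word relating their characters. -/
theorem exists_twist {n0 : GL D.Idx F} (hn0 : n0 ∈ D.group F) :
    ∃ (L : List ℕ) (_ : ∀ i ∈ L, i < D.rank) (S S' : Finset ℕ),
      (∀ s ∈ S, s < D.nroots) ∧ (∀ s ∈ S', s < D.nroots) ∧ ∀ c c' : ℕ → Fˣ,
        (n0 * tor D c' * n0⁻¹ = tor D c ↔ (∀ s ∈ S, torChar D c s = 1) ∧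
          (∀ s ∈ S', torChar D c' s = 1) ∧
            ∀ s < D.nroots, torChar D c (wL D L s) = torChar D c' s) := by
  obtain ⟨b, hb, n, hn, u, hu, rfl⟩ := exists_form hC hn0
  obtain ⟨v, hv, k, hk, rfl⟩ := (mem_B_iff hC).1 hb
  obtain ⟨k₀, rfl⟩ := (mem_H_iff hC).1 hk
  obtain ⟨d₀, L, hL, rfl⟩ := (mem_N_iff hC).1 hn
  obtain ⟨d, hd⟩ : ∃ d, d = k₀ * d₀ := ⟨_, rfl⟩
  obtain ⟨m, hm⟩ : ∃ m, m = tor D d * nL hC F L := ⟨_, rfl⟩
  have hn0e : v * tor D k₀ * (tor D d₀ * nL hC F L) * u = v * m * u := by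
    rw [hm, hd, ← tor_mul]; group
  have hmN : m ∈ D.monomialSubgroup F := (mem_N_iff hC).2 ⟨d, L, hL, hm⟩
  have hum : u ∈ Uminus D F m := by
    rw [hm, Uminus_eq hC hL d, ← Uminus_eq hC hL d₀]; exact hu
  obtain ⟨S, hSlt, hS⟩ := exists_support hC hv
  obtain ⟨S', hSlt', hS'⟩ := exists_support hC (Uminus_le_U hC m hum)
  refine ⟨L, hL, S, S', hSlt, hSlt', fun c c' => ?_⟩
  rw [hn0e, ← hS, ← hS']
  obtain ⟨c'', hc''⟩ := exists_conj_tor (F := F) hC hL d c'
  rw [← hm] at hc''
  have hchar := fun s (hs : s < D.nroots) => char_of_conj hC hL (d := d) (hm ▸ hc'') hs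
  constructor
  · intro h
    have hu' : (tor D c')⁻¹ * u * tor D c' ∈ Uminus D F m := by
      rw [hm, Uminus_eq hC hL d] at hum ⊢
      clear h hS' hu hn0 hn0e
      induction hum using Subgroup.closure_induction with
      | mem x hx =>
        obtain ⟨r, a, hr, rfl⟩ := hx
        rw [show (tor D c')⁻¹ * xg hC r a * tor D c' =
            tor D c'⁻¹ * xg hC r a * (tor D c'⁻¹)⁻¹ by
              rw [show tor D c'⁻¹ = (tor D c')⁻¹ from
                (inv_eq_of_mul_eq_one_right (by rw [tor_mul, mul_inv_cancel, tor_one])).symm, inv_inv],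
          tor_conj_x hC _ _ _ ((mem_invList hC).1 hr).1]
        exact Subgroup.subset_closure ⟨r, _, hr, rfl⟩
      | one => simp
      | mul x y _ _ ihx ihy =>
        rw [show (tor D c')⁻¹ * (x * y) * tor D c' =
          (tor D c')⁻¹ * x * tor D c' * ((tor D c')⁻¹ * y * tor D c') by group]
        exact mul_mem ihx ihy
      | inv x _ ih =>
        rw [show (tor D c')⁻¹ * x⁻¹ * tor D c' = ((tor D c')⁻¹ * x * tor D c')⁻¹ by group]
        exact inv_mem ih
    have hvc : v * tor D c'' ∈ D.borelSubgroup F :=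
      mul_mem (Subgroup.mem_sup_left hv) (Subgroup.mem_sup_right (tor_mem_H hC c''))
    have htv : tor D c * v ∈ D.borelSubgroup F :=
      mul_mem (Subgroup.mem_sup_right (tor_mem_H hC c)) (Subgroup.mem_sup_left hv)
    have he : v * tor D c'' * m * ((tor D c')⁻¹ * u * tor D c') = tor D c * v * m * u :=
      calc _ = v * (m * tor D c' * m⁻¹) * m * ((tor D c')⁻¹ * u * tor D c') := by rw [hc'']
        _ = v * m * u * tor D c' * (v * m * u)⁻¹ * (v * m * u) := by group
        _ = _ := by rw [h]; group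
    obtain ⟨hb', hu''⟩ := (unique_form hC hvc htv hmN hmN hu' hum he).2 rfl
    have hk : tor D c'' * (tor D c)⁻¹ = 1 := by
      have hmem : tor D c'' * (tor D c)⁻¹ ∈ D.diagonalSubgroup F :=
        mul_mem (tor_mem_H hC c'') (inv_mem (tor_mem_H hC c))
      have hU : tor D c'' * (tor D c)⁻¹ ∈ D.posUnipotent F := by
        have h1 := (Subgroup.mem_normalizer_iff.1 (H_normalizes_U hC (tor_mem_H hC c)) v).1 hv
        have e : tor D c'' * (tor D c)⁻¹ = v⁻¹ * (tor D c * v * (tor D c)⁻¹) := by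
          rw [← hb']; group
        rw [e]
        exact mul_mem (inv_mem hv) h1
      exact UT_inf_H hC (U_le_UT hC hU) hmem
    rw [mul_inv_eq_one] at hk
    refine ⟨?_, ?_, fun s hs => ?_⟩
    · rw [← hb', hk]; group
    · conv_lhs => rw [← hu'']
      group
    · rw [← hchar s hs]
      have h1 : ∀ s < D.nroots, torChar D c'' s = torChar D c s := by
        intro s hs
        have h2 := congrArg (fun g : GL D.Idx F => (g : Matrix D.Idx D.Idx F)
          (Sum.inr ⟨s, hs⟩) (Sum.inr ⟨s, hs⟩)) hk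
        simp only [coe_tor hC, Cfsg.Agent.Chevalley.Root.dMat, Matrix.diagonal_apply_eq, Sum.elim_inr] at h2
        exact Units.ext h2
      exact (h1 _ (wL_lt hC hL hs)).symm
  · rintro ⟨h1, h2, h3⟩
    have hk : tor D c'' = tor D c := by
      refine dg_congr fun s hs => ?_
      have hLr : ∀ i ∈ L.reverse, i < D.rank := fun i hi => hL i (List.mem_reverse.1 hi)
      have hs' := wL_lt hC hLr hs
      have e : wL D L (wL D L.reverse s) = s := by simpa using wL_reverse hC hLr hs
      show torChar D c'' s = torChar D c s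
      rw [← e, hchar _ hs', h3 _ hs']
    have hu2 : u * tor D c' * u⁻¹ = tor D c' := by
      have h4 : u * tor D c' = tor D c' * u := by
        conv_lhs => rw [← h2]
        group
      rw [h4, mul_inv_cancel_right]
    calc v * m * u * tor D c' * (v * m * u)⁻¹
        = v * (m * (u * tor D c' * u⁻¹) * m⁻¹) * v⁻¹ := by group
      _ = v * tor D c * v⁻¹ := by rw [hu2, hc'', hk]
      _ = tor D c * v * v⁻¹ := by
        rw [show v * tor D c = tor D c * v from
          eq_mul_inv_iff_mul_eq.1 h1.symm]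
      _ = _ := by group

end Conj

section Fixed

variable {F K : Type*} [Field F] [Field K]

omit hC in
theorem torHom_eq (c : ℕ → Kˣ) : torHom D K (fun i => c i) = tor D c :=
  dg_congr fun s _ => Finset.prod_congr rfl fun i hi => by
    rw [Cfsg.Agent.Chevalley.TorusCard.ext, dif_pos (Finset.mem_range.1 hi)]

/-- Kernel elements are killed by the determinant. -/
theorem pow_det_eq_one {c : Fin D.rank → Kˣ} (h : torHom D K c = 1) :
    c ^ (cartanMat D).det.natAbs = 1 := by
  have h1 : matHom (cartanMat D) c = 1 := by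
    rw [← MonoidHom.mem_ker, ← ker_torHom hC]; exact h
  have h2 := congrArg (matHom (G := Kˣ) (cartanMat D).adjugate) h1
  rw [← matHom_mul, Matrix.adjugate_mul, map_one] at h2
  funext i
  have h3 := congrFun h2 i
  rw [matHom_apply, Finset.prod_eq_single i (fun j _ hj => by simp [Ne.symm hj])
    (by simp), Matrix.smul_apply, Matrix.one_apply_eq, smul_eq_mul, mul_one, Pi.one_apply] at h3
  rw [Pi.pow_apply, Pi.one_apply]
  rcases Int.natAbs_eq (cartanMat D).det with e | e
  · rw [← zpow_natCast, ← e]; exact h3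
  · rw [← zpow_natCast, ← inv_inj, ← zpow_neg, ← e, inv_one]; exact h3

variable (f : F →+* K) (σ : K →+* K) (hσf : ∀ t, σ (f t) = f t) (hσ : ∀ t : K, σ t = t → t ∈ Set.range f)
include hσf hσ

/-- An element of the group fixed by `σ`, of order prime to the determinant of the Cartan matrix, comes
from the fixed field. -/
theorem mem_range_of_fixed (hdet : (cartanMat D).det ≠ 0) {g : GL D.Idx K} (hg : g ∈ D.group K)
    (he : mapGL D σ g = g) (hcop : (cartanMat D).det.natAbs.Coprime (orderOf g)) :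
    g ∈ (D.group F).map (mapGL D f) := by
  classical
  obtain ⟨A, hA⟩ : ∃ A, A = (D.group F).map (mapGL D f) := ⟨_, rfl⟩
  rw [← hA]
  obtain ⟨N, hN⟩ : ∃ N, N = (cartanMat D).det.natAbs := ⟨_, rfl⟩
  have hN0 : N ≠ 0 := hN ▸ Int.natAbs_ne_zero.2 hdet
  -- fixed torus elements
  have hH : ∀ h ∈ D.diagonalSubgroup K, mapGL D σ h = h →
      h ^ N ∈ A ∧ ∀ a ∈ A, h * a * h⁻¹ ∈ A := by
    intro h hh hhe
    obtain ⟨c, rfl⟩ := (mem_H_iff hC).1 hh
    constructor
    · rw [mapGL_tor, ← torHom_eq, ← torHom_eq] at hhe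
      have hk : torHom D K ((fun i : Fin D.rank => Units.map (σ : K →* K) (c i)) /
          fun i : Fin D.rank => c i) = 1 := by rw [map_div, hhe, div_self']
      have h1 := pow_det_eq_one hC hk
      rw [← hN, div_pow, div_eq_one] at h1
      have hmem : ∀ i : Fin D.rank, ∃ a : Fˣ, f a = (c i : K) ^ N := fun i => by
        obtain ⟨a, ha⟩ := hσ ((c i : K) ^ N) (by
          have h2 := congrArg Units.val (congrFun h1 i)
          simpa [map_pow] using h2)
        have ha0 : a ≠ 0 := fun h0 => by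
          rw [h0, map_zero] at ha
          exact pow_ne_zero _ (c i).ne_zero ha.symm
        exact ⟨Units.mk0 a ha0, ha⟩
      choose a ha using hmem
      rw [hA]
      refine ⟨torHom D F a, H_le_group hC (tor_mem_H hC _), ?_⟩
      rw [show torHom D F a = tor D (Cfsg.Agent.Chevalley.TorusCard.ext a) from rfl, mapGL_tor, ← torHom_eq,
        ← torHom_eq, ← map_pow]
      congr 1
      funext i
      refine Units.ext ?_
      simp [Cfsg.Agent.Chevalley.TorusCard.ext, ha]
    · intro a ha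
      rw [hA] at ha ⊢
      obtain ⟨b, hb, rfl⟩ := ha
      rw [SetLike.mem_coe, group_eq_closure hC] at hb
      induction hb using Subgroup.closure_induction with
      | mem x hx =>
        obtain ⟨r, t, hr, rfl⟩ := hx
        have h1 : tor D c * mapGL D f (xg hC r t) * (tor D c)⁻¹ =
            xg hC r ((torChar D c r : K) * f t) := by rw [mapGL_xg, tor_conj_x hC _ _ _ hr]
        have h2 : σ ((torChar D c r : K) * f t) = (torChar D c r : K) * f t := by
          refine xg_injective hC hr ?_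
          rw [← mapGL_xg hC σ, ← h1, map_mul, map_mul, map_inv, hhe, mapGL_xg, mapGL_xg, hσf]
        obtain ⟨t', ht'⟩ := hσ _ h2
        exact ⟨xg hC r t', xg_mem_group hC hr t', by rw [mapGL_xg, ht', h1]⟩
      | one => simp
      | mul x y _ _ ihx ihy =>
        rw [map_mul, show tor D c * (mapGL D f x * mapGL D f y) * (tor D c)⁻¹ =
          tor D c * mapGL D f x * (tor D c)⁻¹ * (tor D c * mapGL D f y * (tor D c)⁻¹) by group]
        exact mul_mem ihx ihy
      | inv x _ ih =>
        rw [map_inv, show tor D c * (mapGL D f x)⁻¹ * (tor D c)⁻¹ =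
          (tor D c * mapGL D f x * (tor D c)⁻¹)⁻¹ by group]
        exact inv_mem ih
  -- the normal form
  obtain ⟨b, hb, n, hn, u, hu, hge⟩ := exists_form hC hg
  obtain ⟨c, L, hL, rfl⟩ := (mem_N_iff hC).1 hn
  have e1 : (tor D (1 : ℕ → Kˣ) : GL D.Idx K) * nL hC K L = nL hC K L := by rw [tor_one, one_mul]
  have hU1 : Uminus D K (tor D c * nL hC K L) = Uminus D K (nL hC K L) := by
    rw [Uminus_eq hC hL c, ← e1, Uminus_eq hC hL 1]
  rw [hU1] at hu
  obtain ⟨b', hb'⟩ : ∃ b', b' = b * tor D c := ⟨_, rfl⟩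
  have hbB : b' ∈ D.borelSubgroup K :=
    hb' ▸ mul_mem hb (Subgroup.mem_sup_right (tor_mem_H hC c))
  rw [show b * (tor D c * nL hC K L) * u = b' * nL hC K L * u by simp only [hb', mul_assoc]] at hge
  have he' := he
  rw [hge, map_mul, map_mul, mapGL_nL] at he'
  have hnN : nL hC K L ∈ D.monomialSubgroup K := nL_mem_N hC hL
  have hu' : mapGL D σ u ∈ Uminus D K (nL hC K L) := by
    have h1 : Uminus D K (nL hC K L) ≤ (Uminus D K (nL hC K L)).comap (mapGL D σ) := by
      rw [← e1, Uminus_eq hC hL 1, Subgroup.closure_le]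
      rintro g ⟨r, t, hr, rfl⟩
      rw [SetLike.mem_coe, Subgroup.mem_comap, mapGL_xg]
      exact Subgroup.subset_closure ⟨r, σ t, hr, rfl⟩
    exact h1 hu
  obtain ⟨v, hv, h, hh, hbe⟩ := (mem_B_iff hC).1 hbB
  have hσb : mapGL D σ b' ∈ D.borelSubgroup K := by
    rw [hbe, map_mul]
    exact (mem_B_iff hC).2 ⟨_, map_mem_U hC σ hv, _, map_mem_H hC σ hh, rfl⟩
  obtain ⟨hb2, hu2⟩ := (unique_form hC hσb hbB hnN hnN hu' hu he').2 rfl
  rw [hbe, map_mul] at hb2
  have hvh : v⁻¹ * mapGL D σ v = h * (mapGL D σ h)⁻¹ := by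
    rw [eq_mul_inv_iff_mul_eq, mul_assoc, hb2]; group
  have h2 : v⁻¹ * mapGL D σ v ∈ (⊥ : Subgroup (GL D.Idx K)) := by
    rw [← U_inf_H hC, Subgroup.mem_inf]
    exact ⟨mul_mem (inv_mem hv) (map_mem_U hC σ hv),
      hvh ▸ mul_mem hh (inv_mem (map_mem_H hC σ hh))⟩
  rw [Subgroup.mem_bot] at h2
  have hσv : mapGL D σ v = v := by rwa [inv_mul_eq_one, eq_comm] at h2
  have hσh : mapGL D σ h = h := by rw [hσv] at hb2; exact mul_left_cancel hb2
  obtain ⟨hhN, hhA⟩ := hH h hh hσh
  have hvA : v ∈ A := hA ▸ U_fixed hC f σ hσ hv hσv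
  have hrest : nL hC K L * u ∈ A := by
    rw [hA]
    refine mul_mem ⟨nL hC F L, N_le_group hC (nL_mem_N hC hL), mapGL_nL hC f L⟩ ?_
    exact U_fixed hC f σ hσ (Uminus_le_U hC _ hu) hu2
  have hinv : ∀ a ∈ A, h⁻¹ * a * h ∈ A := by
    intro a ha
    have h1 := (hH h⁻¹ (inv_mem hh) (by rw [map_inv, hσh])).2 a ha
    rwa [inv_inv] at h1
  obtain ⟨a, ha, hga⟩ : ∃ a ∈ A, g = h * a :=
    ⟨h⁻¹ * v * h * (nL hC K L * u), mul_mem (hinv v hvA) hrest, by rw [hge, hbe]; group⟩
  have hpow : ∀ k : ℕ, ∃ a' ∈ A, (h * a) ^ k = h ^ k * a' := by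
    intro k
    induction k with
    | zero => exact ⟨1, one_mem _, by simp⟩
    | succ k ih =>
      obtain ⟨a', ha', e⟩ := ih
      refine ⟨h⁻¹ * a' * h * a, mul_mem (hinv a' ha') ha, ?_⟩
      rw [pow_succ, e, pow_succ]; group
  obtain ⟨a', ha', e⟩ := hpow N
  have hgN : g ^ N ∈ A := by rw [hga, e]; exact mul_mem hhN ha'
  obtain ⟨k, hk⟩ := exists_pow_eq_self_of_coprime (hN ▸ hcop : N.Coprime (orderOf g))
  rw [← hk]
  exact pow_mem hgN k

end Fixed

end Cfsg.Agent.SimpleFacts.AbelianSylow.Twist
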