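import Mathlib

/-!
A finite abelian group of exponent dividing `r ^ m` in which every element killed by `r ^ (m - 1)` is a
multiple of `r` is homocyclic.
-/

set_option autoImplicit false
set_option linter.style.haveILetI false

namespace Cfsg.Agent.SimpleFacts.AbelianSylow.Free

theorem exists_gens_aux {E : Type*} [AddCommGroup E] [Finite E] {r : ℕ} [Fact r.Prime]
    [Module (ZMod r) E] :
    ∃ (b : ℕ) (e : Fin b → E), (∀ x : E, ∃ a : Fin b → ℕ, x = ∑ i, a i • e i) ∧
      ∀ a : Fin b → ℕ, ∑ i, a i • e i = 0 → ∀ i, r ∣ a i := by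
  haveI : Module.Finite (ZMod r) E := Module.Finite.of_finite
  let bas := Module.finBasis (ZMod r) E
  refine ⟨_, fun i => bas i, fun x => ⟨fun i => (bas.repr x i).val, ?_⟩, fun a ha i => ?_⟩
  · conv_lhs => rw [← bas.sum_repr x]
    exact Finset.sum_congr rfl fun i _ => by
      rw [← Nat.cast_smul_eq_nsmul (ZMod r), ZMod.natCast_zmod_val]
  · simp only [← Nat.cast_smul_eq_nsmul (ZMod r)] at ha
    exact (ZMod.natCast_eq_zero_iff _ _).1
      (Fintype.linearIndependent_iff.1 bas.linearIndependent _ ha i)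

theorem exists_gens {E : Type*} [AddCommGroup E] [Finite E] {r : ℕ} [Fact r.Prime]
    (h : ∀ x : E, r • x = 0) :
    ∃ (b : ℕ) (e : Fin b → E), (∀ x : E, ∃ a : Fin b → ℕ, x = ∑ i, a i • e i) ∧
      ∀ a : Fin b → ℕ, ∑ i, a i • e i = 0 → ∀ i, r ∣ a i :=
  @exists_gens_aux E _ _ r _ (AddCommGroup.zmodModule h)

theorem exists_equiv {A : Type*} [AddCommGroup A] [Finite A] {r m : ℕ} [Fact r.Prime] (hm : 1 ≤ m)
    (hexp : ∀ x : A, r ^ m • x = 0)
    (hpure : ∀ x : A, r ^ (m - 1) • x = 0 → ∃ y, r • y = x) :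
    ∃ b : ℕ, Nonempty ((Fin b → ZMod (r ^ m)) ≃+ A) := by
  classical
  have hr : r.Prime := Fact.out
  haveI : NeZero (r ^ m) := ⟨pow_ne_zero _ hr.ne_zero⟩
  -- the socle
  let E : AddSubgroup A := (nsmulAddMonoidHom r : A →+ A).ker
  have hEr : ∀ x : E, r • x = 0 := fun x => Subtype.ext x.2
  have hroot : ∀ x : A, r • x = 0 → ∀ k ≤ m - 1, ∃ y : A, r ^ k • y = x := by
    intro x hx k
    induction k with
    | zero => exact fun _ => ⟨x, by simp⟩
    | succ k ih =>
      intro hk
      obtain ⟨y, hy⟩ := ih (by omega)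
      obtain ⟨z, hz⟩ := hpure y (by
        rw [show m - 1 = (m - 1 - (k + 1)) + (k + 1) by omega, pow_add, mul_nsmul', pow_succ',
          mul_nsmul', hy, hx, smul_zero])
      exact ⟨z, by rw [pow_succ, mul_nsmul', hz, hy]⟩
  obtain ⟨b, e, hspan, hind⟩ := exists_gens hEr
  choose w hw using fun i => hroot (e i : A) (e i).2 (m - 1) le_rfl
  let φ : Fin b → (ZMod (r ^ m) →+ A) := fun i =>
    ZMod.lift (r ^ m) ⟨zmultiplesHom A (w i), by
      rw [zmultiplesHom_apply, natCast_zsmul, hexp]⟩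
  let ψ : (Fin b → ZMod (r ^ m)) →+ A :=
    ∑ i, (φ i).comp (Pi.evalAddMonoidHom (fun _ => ZMod (r ^ m)) i)
  have hψ : ∀ (a : Fin b → ℕ), ψ (fun i => (a i : ZMod (r ^ m))) = ∑ i, a i • w i := by
    intro a
    simp only [ψ, AddMonoidHom.finsetSum_apply, AddMonoidHom.coe_comp, Function.comp_apply,
      Pi.evalAddMonoidHom_apply]
    refine Finset.sum_congr rfl fun i _ => ?_
    rw [← nsmul_one (a i), map_nsmul]
    congr 1
    rw [show (1 : ZMod (r ^ m)) = ((1 : ℤ) : ZMod (r ^ m)) by simp, ZMod.lift_coe]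
    simp
  have htop : ∀ (a : Fin b → ℕ),
      r ^ (m - 1) • ψ (fun i => (a i : ZMod (r ^ m))) = ((∑ i, a i • e i : E) : A) := by
    intro a
    rw [hψ, Finset.smul_sum, AddSubgroup.val_finsetSum]
    refine Finset.sum_congr rfl fun i _ => ?_
    rw [AddSubgroup.coe_nsmul, ← hw i, smul_comm]
  refine ⟨_, ⟨AddEquiv.ofBijective ψ ⟨?_, ?_⟩⟩⟩
  · rw [injective_iff_map_eq_zero]
    intro x hx
    have key : ∀ k ≤ m, ∃ a : Fin b → ℕ, x = r ^ k • fun i => (a i : ZMod (r ^ m)) := by
      intro k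
      induction k with
      | zero => exact fun _ => ⟨fun i => (x i).val, funext fun i => by simp⟩
      | succ k ih =>
        intro hk
        obtain ⟨a, ha⟩ := ih (by omega)
        have h1 : ((∑ i, a i • e i : E) : A) = 0 := by
          rw [← htop, show m - 1 = (m - 1 - k) + k by omega, pow_add, mul_nsmul', ← map_nsmul ψ (r ^ k),
            ← ha, hx, smul_zero]
        have h2 : ∀ i, r ∣ a i := hind a (Subtype.ext h1)
        refine ⟨fun i => a i / r, ?_⟩
        rw [ha]
        funext i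
        simp only [Pi.smul_apply, nsmul_eq_mul, pow_succ, Nat.cast_mul, mul_assoc]
        rw [← Nat.cast_mul r, Nat.mul_div_cancel' (h2 i)]
    obtain ⟨a, ha⟩ := key m le_rfl
    rw [ha]
    funext i
    simp only [Pi.smul_apply, nsmul_eq_mul, Pi.zero_apply, ZMod.natCast_self, zero_mul]
  · intro x
    have key : ∀ k ≤ m, ∀ x : A, r ^ k • x = 0 → x ∈ ψ.range := by
      intro k
      induction k with
      | zero => intro _ x hx; rw [pow_zero, one_smul] at hx; exact hx ▸ zero_mem _
      | succ k ih =>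
        intro hk x hx
        have hE : r ^ k • x ∈ E := by
          show r • (r ^ k • x) = 0
          rw [← mul_nsmul', ← pow_succ', hx]
        obtain ⟨c, hc⟩ := hspan ⟨_, hE⟩
        have h1 := htop c
        rw [← hc] at h1
        have h2 := ih (by omega) (x - r ^ (m - 1 - k) • ψ fun i => (c i : ZMod (r ^ m))) (by
          rw [smul_sub, sub_eq_zero, ← mul_nsmul', ← pow_add, show k + (m - 1 - k) = m - 1 by omega]
          exact h1.symm)
        have h3 := add_mem h2 (nsmul_mem (⟨_, rfl⟩ : (ψ fun i => (c i : ZMod (r ^ m))) ∈ ψ.range)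
          (r ^ (m - 1 - k)))
        rwa [sub_add_cancel] at h3
    exact key m le_rfl x (hexp x)

end Cfsg.Agent.SimpleFacts.AbelianSylow.Free
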