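import Cfsg.Agent.SimpleFacts.AbelianSylow.Twist
import Cfsg.Agent.SimpleFacts.AbelianSylow.Free
import Cfsg.Agent.SimpleFacts.AbelianSylow.Lattice
import Mathlib.FieldTheory.Finite.Extension
import Mathlib.FieldTheory.Perfect
import Mathlib.RingTheory.Polynomial.Cyclotomic.Roots
import Mathlib.Algebra.Ring.GeomSum
import Mathlib.GroupTheory.Sylow

/-!
The Sylow subgroups of a Chevalley group for the primes prime to the characteristic and to the order of
the Weyl group are homocyclic.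
-/

set_option autoImplicit false
set_option linter.style.haveILetI false

open scoped Matrix

namespace Cfsg.Agent.SimpleFacts.AbelianSylow.Main

open Cfsg.Lie Cfsg.Agent.Chevalley.Table Cfsg.Agent.Chevalley.Check Cfsg.Agent.Chevalley.Cert
  Cfsg.Agent.Chevalley.Group Cfsg.Agent.Chevalley.Borel Cfsg.Agent.Chevalley.TorusCard
  Cfsg.Agent.Chevalley.WeylGroup Cfsg.Agent.Chevalley.WeylEnum Cfsg.Agent.Chevalley.FieldAut
  Cfsg.Agent.Chevalley.FieldFix Cfsg.Agent.Chevalley.Singer
  Cfsg.Agent.SimpleFacts.AbelianSylow.Twist Cfsg.Agent.SimpleFacts.AbelianSylow.Lattice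

section Arith

variable {r q d : ℕ} [Fact r.Prime]

theorem geom_cast {Q : ℕ} (hQ : (Q : ZMod r) = 1) (j : ℕ) :
    ((∑ i ∈ Finset.range j, Q ^ i : ℕ) : ZMod r) = (j : ZMod r) := by
  simp [hQ]

theorem pow_sub_one_eq {Q : ℕ} (hQ : 1 ≤ Q) (j : ℕ) :
    Q ^ j - 1 = (∑ i ∈ Finset.range j, Q ^ i) * (Q - 1) := by
  zify [Nat.one_le_pow j Q hQ, hQ]
  exact (geom_sum_mul _ _).symm

theorem factorization_geom {Q j : ℕ} (hQ : (Q : ZMod r) = 1) (hj : ¬ r ∣ j) :
    (∑ i ∈ Finset.range j, Q ^ i).factorization r = 0 := by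
  refine Nat.factorization_eq_zero_of_not_dvd fun h => hj ?_
  rw [← ZMod.natCast_eq_zero_iff, geom_cast hQ, ZMod.natCast_eq_zero_iff] at h
  exact h

/-- The `r`-part of `q ^ k - 1`. -/
theorem factorization_pow_sub_one (hq : 1 < q) (hd : orderOf (q : ZMod r) = d) {k : ℕ}
    (hk : ¬ r ∣ k) :
    (q ^ k - 1).factorization r = if d ∣ k then (q ^ d - 1).factorization r else 0 := by
  split_ifs with h
  · obtain ⟨j, rfl⟩ := h
    have hd0 : d ≠ 0 := fun e => hk (by simp [e])
    have hj : ¬ r ∣ j := fun e => hk (Dvd.dvd.mul_left e d)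
    have hj0 : j ≠ 0 := fun e => hj (e ▸ dvd_zero r)
    have hQ : 1 < q ^ d := Nat.one_lt_pow hd0 hq
    rw [pow_mul, pow_sub_one_eq hQ.le, Nat.factorization_mul
      (Finset.sum_pos (fun i _ => pow_pos (by omega) i) (by simpa using hj0)).ne' (by omega),
      Finsupp.add_apply, factorization_geom (by rw [Nat.cast_pow, ← hd, pow_orderOf_eq_one]) hj,
      zero_add]
  · refine Nat.factorization_eq_zero_of_not_dvd fun hdv => h ?_
    rw [← ZMod.natCast_eq_zero_iff, Nat.cast_sub (Nat.one_le_pow _ _ (by omega)), Nat.cast_pow,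
      Nat.cast_one, sub_eq_zero] at hdv
    rw [← hd]
    exact orderOf_dvd_of_pow_eq_one hdv

theorem factorization_list (hq : 1 < q) (hd : orderOf (q : ZMod r) = d) :
    ∀ degs : List ℕ, (∀ k ∈ degs, ¬ r ∣ k) →
      (degs.map fun k => q ^ k - 1).prod ≠ 0 ∧
      (degs.map fun k => q ^ k - 1).prod.factorization r =
        (q ^ d - 1).factorization r * (degs.filter fun k => d ∣ k).length := by
  intro degs
  induction degs with
  | nil => simp
  | cons k degs ih =>
    intro h
    obtain ⟨h1, h2⟩ := ih fun a ha => h a (List.mem_cons_of_mem k ha)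
    have hk := h k List.mem_cons_self
    have hk0 : k ≠ 0 := fun e => hk (e ▸ dvd_zero r)
    have hne : q ^ k - 1 ≠ 0 := by have := Nat.one_lt_pow hk0 hq; omega
    refine ⟨by rw [List.map_cons, List.prod_cons]; exact mul_ne_zero hne h1, ?_⟩
    rw [List.map_cons, List.prod_cons, Nat.factorization_mul hne h1, Finsupp.add_apply, h2,
      factorization_pow_sub_one hq hd hk, List.filter_cons]
    split_ifs with h3 h4 h4
    · rw [List.length_cons]; ring
    · simp_all
    · simp_all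
    · rw [zero_add]

/-- The `r`-part of the cyclotomic value is that of `q ^ d - 1`. -/
theorem factorization_cyclotomic (hq : 1 < q) (hd : orderOf (q : ZMod r) = d) (hd0 : 0 < d)
    (hrd : ¬ r ∣ d) :
    ((Polynomial.cyclotomic d ℤ).eval (q : ℤ)).natAbs.factorization r =
      (q ^ d - 1).factorization r := by
  classical
  obtain ⟨R, hR⟩ : ∃ R, R = ∏ i ∈ d.properDivisors, (Polynomial.cyclotomic i ℤ).eval (q : ℤ) :=
    ⟨_, rfl⟩
  have hmul : ((Polynomial.cyclotomic d ℤ).eval (q : ℤ)) * R = ((q ^ d - 1 : ℕ) : ℤ) := by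
    have h := congrArg (Polynomial.eval (q : ℤ)) (Polynomial.prod_cyclotomic_eq_X_pow_sub_one hd0 ℤ)
    rw [← Nat.cons_self_properDivisors hd0.ne', Finset.prod_cons, Polynomial.eval_mul,
      Polynomial.eval_prod, ← hR] at h
    rw [h, Nat.cast_sub (Nat.one_le_pow _ _ (by omega))]
    simp only [Polynomial.eval_sub, Polynomial.eval_pow, Polynomial.eval_X, Polynomial.eval_one,
      Nat.cast_pow, Nat.cast_one]
  have hne : q ^ d - 1 ≠ 0 := by have := Nat.one_lt_pow hd0.ne' hq; omega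
  have hRr : ¬ r ∣ R.natAbs := by
    intro h
    rw [← Int.natCast_dvd, hR, ← ZMod.intCast_zmod_eq_zero_iff_dvd, Int.cast_prod,
      Finset.prod_eq_zero_iff] at h
    obtain ⟨i, hi, h0⟩ := h
    rw [Nat.mem_properDivisors] at hi
    haveI : NeZero (i : ZMod r) :=
      ⟨fun e => hrd (((ZMod.natCast_eq_zero_iff _ _).1 e).trans hi.1)⟩
    have h1 : (Polynomial.cyclotomic i (ZMod r)).IsRoot (q : ZMod r) := by
      rw [Polynomial.IsRoot, ← Polynomial.map_cyclotomic i (Int.castRingHom (ZMod r)),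
        show (q : ZMod r) = Int.castRingHom (ZMod r) (q : ℤ) by simp, Polynomial.eval_map_apply]
      exact h0
    have h2 := (Polynomial.isRoot_cyclotomic_iff.1 h1).eq_orderOf
    omega
  have h := congrArg Int.natAbs hmul
  rw [Int.natAbs_mul, Int.natAbs_natCast] at h
  rw [← h, Nat.factorization_mul (fun e => hne (by rw [← h, e, zero_mul]))
    (fun e => hne (by rw [← h, e, mul_zero])), Finsupp.add_apply,
    Nat.factorization_eq_zero_of_not_dvd hRr, add_zero]

end Arith

variable {D : ChevalleyDatum} {T : Tab}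

theorem homocyclic (hC : Certified D T) {degs : List ℕ} (hlen : degs.length = D.rank) {r : ℕ}
    [Fact r.Prime] (hr2 : r ≠ 2) (hrW : ¬ r ∣ degs.prod) (hW : Nat.card (WG hC) = degs.prod)
    (hdet : (cartanMat D).det ≠ 0) (hrdet : ¬ r ∣ (cartanMat D).det.natAbs)
    {e : ℕ} (hH : ∀ (K : Type) [Field K] [Fintype K], ∃ c : ℕ, ¬ r ∣ c ∧
      c * Nat.card (D.diagonalSubgroup K) = (Fintype.card K - 1) ^ D.rank)
    (hG : ∀ (K : Type) [Field K] [Fintype K], ∃ c : ℕ, ¬ r ∣ c ∧ c * Nat.card (D.group K) =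
      Fintype.card K ^ e * (degs.map fun k => Fintype.card K ^ k - 1).prod)
    {F : Type*} [Field F] [Fintype F] {q : ℕ} (hq : Fintype.card F = q) (hrq : ¬ r ∣ q)
    (hGF : ∃ c : ℕ, ¬ r ∣ c ∧
      c * Nat.card (D.group F) = q ^ e * (degs.map fun k => q ^ k - 1).prod)
    (P : Sylow r ↥(D.group F)) :
    Nonempty (↥(P : Subgroup ↥(D.group F)) ≃*
      (Fin (degs.filter fun k => orderOf (q : ZMod r) ∣ k).length →
        Multiplicative (ZMod (r ^ padicValNat r
          ((Polynomial.cyclotomic (orderOf (q : ZMod r)) ℤ).eval (q : ℤ)).natAbs)))) := by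
  classical
  have hr : r.Prime := Fact.out
  obtain ⟨p, hchar⟩ := CharP.exists F
  obtain ⟨n, hp, hqp⟩ := FiniteField.card F p
  haveI : Fact p.Prime := ⟨hp⟩
  have hq2 : 1 < q := hq ▸ Fintype.one_lt_card
  obtain ⟨d, hd⟩ : ∃ d, orderOf (q : ZMod r) = d := ⟨_, rfl⟩
  rw [hd]
  have hq0 : (q : ZMod r) ≠ 0 := fun h => hrq ((ZMod.natCast_eq_zero_iff _ _).1 h)
  have hd0 : 0 < d := hd ▸ (IsOfFinOrder.orderOf_pos (isOfFinOrder_iff_pow_eq_one.2
    ⟨r - 1, by have := hr.two_le; omega, ZMod.pow_card_sub_one_eq_one hq0⟩))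
  have hrd : ¬ r ∣ d := by
    intro h
    have h1 : d ∣ r - 1 := hd ▸ ZMod.orderOf_dvd_card_sub_one hq0
    have := Nat.le_of_dvd (by have := hr.two_le; omega) (h.trans h1)
    have := hr.two_le
    omega
  haveI : NeZero d := ⟨hd0.ne'⟩
  obtain ⟨m, hm⟩ : ∃ m, m = (q ^ d - 1).factorization r := ⟨_, rfl⟩
  have hmd : r ^ m ∣ q ^ d - 1 := hm ▸ Nat.ordProj_dvd _ _
  have hqd : 1 < q ^ d := Nat.one_lt_pow hd0.ne' hq2
  have hm1 : 1 ≤ m := by
    rw [hm]
    refine (hr.dvd_iff_one_le_factorization (by omega)).1 ?_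
    rw [← ZMod.natCast_eq_zero_iff, Nat.cast_sub hqd.le, Nat.cast_pow, ← hd, pow_orderOf_eq_one,
      Nat.cast_one, sub_self]
  rw [← Nat.factorization_def _ hr, factorization_cyclotomic hq2 hd hd0 hrd, ← hm]
  haveI : NeZero (r ^ m) := ⟨pow_ne_zero _ hr.ne_zero⟩
  have hdegs : ∀ k ∈ degs, ¬ r ∣ k := fun k hk h => hrW (h.trans (List.dvd_prod hk))
  -- the order of a Sylow subgroup
  have hcardP : Nat.card P = r ^ (m * (degs.filter fun k => d ∣ k).length) := by
    obtain ⟨c, hc, hce⟩ := hGF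
    obtain ⟨h1, h2⟩ := factorization_list hq2 hd degs hdegs
    have hc0 : c ≠ 0 := fun h => hc (h ▸ dvd_zero r)
    have h3 := congrArg (fun x : ℕ => x.factorization r) hce
    rw [Nat.factorization_mul hc0 Nat.card_pos.ne', Finsupp.add_apply,
      Nat.factorization_eq_zero_of_not_dvd hc, zero_add,
      Nat.factorization_mul (pow_ne_zero _ (by omega)) h1, Finsupp.add_apply,
      Nat.factorization_eq_zero_of_not_dvd (fun h => hrq (hr.dvd_of_dvd_pow h)), zero_add, h2, ← hm] at h3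
    rw [P.card_eq_multiplicity, h3]
  -- the extension
  obtain ⟨K, _, _, f, hQ⟩ : ∃ (K : Type) (_ : Field K) (_ : Fintype K) (_ : F →+* K),
      Fintype.card K = q ^ d :=
    ⟨FiniteField.Extension F p d, inferInstance, Fintype.ofFinite _, algebraMap F _, by
      rw [← @Nat.card_eq_fintype_card _ (Fintype.ofFinite _), FiniteField.natCard_extension,
        Nat.card_eq_fintype_card, hq]⟩
  haveI : CharP K p := charP_of_injective_ringHom f.injective p
  obtain ⟨σ, hσ⟩ : ∃ σ : K →+* K, ∀ x, σ x = x ^ q :=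
    ⟨iterateFrobenius K p n, fun x => by rw [iterateFrobenius_def, ← hq, hqp]⟩
  have hσf : ∀ t : F, σ (f t) = f t := fun t => by
    rw [hσ, ← map_pow, ← hq, FiniteField.pow_card]
  have hfix : ∀ t : K, σ t = t → t ∈ Set.range f := by
    intro t ht
    rw [hσ] at ht
    by_contra hne
    have h1 : (insert t ((Finset.univ : Finset F).image f)).card ≤ q := by
      have hne0 : (Polynomial.X ^ q - Polynomial.X : Polynomial K) ≠ 0 :=
        FiniteField.X_pow_card_sub_X_ne_zero K hq2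
      refine (Polynomial.card_le_degree_of_subset_roots ?_).trans
        (FiniteField.X_pow_card_sub_X_natDegree_eq K hq2).le
      intro x hx
      rw [Finset.mem_val, Finset.mem_insert, Finset.mem_image] at hx
      rw [Polynomial.mem_roots hne0, Polynomial.IsRoot]
      rcases hx with rfl | ⟨a, -, rfl⟩
      · simp [ht]
      · simp [← map_pow, ← hq, FiniteField.pow_card]
    rw [Finset.card_insert_of_notMem, Finset.card_image_of_injective _ f.injective,
      Finset.card_univ, hq] at h1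
    · omega
    · simpa using hne
  have hQr : ((q ^ d : ℕ) : ZMod r) = 1 := by rw [Nat.cast_pow, ← hd, pow_orderOf_eq_one]
  -- a Sylow subgroup in the torus
  have hidx : ¬ r ∣ ((D.diagonalSubgroup K).subgroupOf (D.group K)).index := by
    intro hdiv
    have hmul := Subgroup.card_mul_index ((D.diagonalSubgroup K).subgroupOf (D.group K))
    rw [Nat.card_congr (Subgroup.subgroupOfEquivOfLe (H_le_group hC)).toEquiv] at hmul
    obtain ⟨c, hc, hce⟩ := hH K
    obtain ⟨c', hc', hce'⟩ := hG K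
    have hQ1 : 1 ≤ Fintype.card K := Fintype.card_pos
    have hgeom : ∀ L : List ℕ, (L.map fun j => Fintype.card K ^ j - 1).prod =
        (Fintype.card K - 1) ^ L.length *
          (L.map fun j => ∑ i ∈ Finset.range j, Fintype.card K ^ i).prod := by
      intro L
      induction L with
      | nil => simp
      | cons j L ih =>
        rw [List.map_cons, List.prod_cons, ih, pow_sub_one_eq hQ1 j, List.map_cons, List.prod_cons,
          List.length_cons, pow_succ]
        ring
    rw [hgeom, hlen, ← hce, ← hmul] at hce'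
    have h1 : c' * ((D.diagonalSubgroup K).subgroupOf (D.group K)).index =
        c * (Fintype.card K ^ e * (degs.map fun j => ∑ i ∈ Finset.range j, Fintype.card K ^ i).prod) := by
      refine Nat.eq_of_mul_eq_mul_left (Nat.card_pos (α := D.diagonalSubgroup K)) ?_
      linear_combination hce'
    have h2 : (r : ℕ) ∣ c * (Fintype.card K ^ e *
        (degs.map fun j => ∑ i ∈ Finset.range j, Fintype.card K ^ i).prod) :=
      h1 ▸ Dvd.dvd.mul_left hdiv c'
    rw [← ZMod.natCast_eq_zero_iff, Nat.cast_mul, mul_eq_zero, ZMod.natCast_eq_zero_iff,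
      Nat.cast_mul, Nat.cast_pow, hQ, hQr, one_pow, one_mul, Nat.cast_list_prod, List.map_map] at h2
    rw [show degs.map (Nat.cast ∘ fun j => ∑ i ∈ Finset.range j, (q ^ d) ^ i) =
        degs.map (fun j : ℕ => (j : ZMod r)) from
          List.map_congr_left fun j _ => geom_cast hQr j,
      ← Nat.cast_list_prod, ZMod.natCast_eq_zero_iff] at h2
    exact h2.elim hc hrW
  have hcop : ∀ j : ℕ, (cartanMat D).det.natAbs.Coprime (r ^ j) := fun j =>
    Nat.Coprime.pow_right _ ((hr.coprime_iff_not_dvd.2 hrdet).symm)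
  obtain ⟨gv, hgG, hgP⟩ : ∃ gv ∈ D.group K, ∀ y ∈ (P : Subgroup (D.group F)),
      gv⁻¹ * mapGL D f y * gv ∈ D.diagonalSubgroup K := by
    let fG : ↥(D.group F) →* ↥(D.group K) :=
      ((mapGL D f).comp (D.group F).subtype).codRestrict (D.group K) fun x => map_mem_group f x.2
    let P0 : Sylow r ((D.diagonalSubgroup K).subgroupOf (D.group K)) := default
    have hP0 : IsPGroup r ↥((P0 : Subgroup _).map
        ((D.diagonalSubgroup K).subgroupOf (D.group K)).subtype) := P0.2.map _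
    have hidx0 : ¬ r ∣ ((P0 : Subgroup _).map
        ((D.diagonalSubgroup K).subgroupOf (D.group K)).subtype).index := by
      rw [Subgroup.index_map_subtype]
      exact Nat.Prime.not_dvd_mul hr P0.not_dvd_index hidx
    obtain ⟨Q, hQ⟩ := (P.2.map fG).exists_le_sylow
    obtain ⟨g, hg⟩ := MulAction.exists_smul_eq (D.group K) (hP0.toSylow hidx0) Q
    refine ⟨g, g.2, fun y hy => ?_⟩
    have hm1 := hQ (Subgroup.mem_map_of_mem fG hy)
    rw [← hg, Sylow.smul_def, Sylow.pointwise_smul_def] at hm1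
    obtain ⟨z, hz, hze⟩ := Subgroup.mem_pointwise_smul_iff_inv_smul_mem.1 hm1
    have h1 : (z : D.group K) = g⁻¹ * fG y * g := by
      rw [show (MulAut.conj g)⁻¹ • fG y = g⁻¹ * fG y * g by
        simp [MulAut.smul_def, mul_assoc]] at hze
      exact hze
    have h2 := congrArg Subtype.val h1
    simp only [Subgroup.coe_mul, Subgroup.coe_inv] at h2
    have h3 : fG y = mapGL D f (y : GL D.Idx F) := rfl
    rw [h3] at h2
    rw [← h2]
    exact z.2
  -- residue vectors
  have hrmK : r ^ m ∣ Nat.card Kˣ := by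
    rw [Nat.card_units, Nat.card_eq_fintype_card, hQ]; exact hmd
  obtain ⟨ζ, hζ⟩ : ∃ ζ : Kˣ, orderOf ζ = r ^ m := by
    obtain ⟨g, hg⟩ := IsCyclic.exists_ofOrder_eq_natCard (α := Kˣ)
    obtain ⟨j, hj⟩ := hrmK
    refine ⟨g ^ j, ?_⟩
    rw [orderOf_pow' g (fun h => Nat.card_pos.ne' (hj.trans (by rw [h, mul_zero]))), hg, hj,
      Nat.gcd_eq_right (dvd_mul_left j _), Nat.mul_div_cancel _ (Nat.pos_of_ne_zero fun h =>
        Nat.card_pos.ne' (hj.trans (by rw [h, mul_zero])))]
  have hzp : ∀ a a' : ℤ, ζ ^ a = ζ ^ a' ↔ (a : ZMod (r ^ m)) = (a' : ZMod (r ^ m)) := fun a a' => by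
    rw [zpow_eq_zpow_iff_modEq, hζ, ZMod.intCast_eq_intCast_iff]
  let cv : (Fin D.rank → ZMod (r ^ m)) → ℕ → Kˣ := fun v i =>
    if h : i < D.rank then ζ ^ ((v ⟨i, h⟩).val : ℤ) else 1
  have hchar : ∀ v s, torChar D (cv v) s =
      ζ ^ (∑ i : Fin D.rank, ((v i).val : ℤ) * D.cartan i s) := by
    intro v s
    rw [← prod_zpow_sum, torChar,
      ← Fin.prod_univ_eq_prod_range fun i => cv v i ^ D.cartan i s]
    refine Finset.prod_congr rfl fun i _ => ?_
    rw [zpow_mul]
    simp only [cv, dif_pos i.2]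
  have hsumev : ∀ (v : Fin D.rank → ZMod (r ^ m)) (s : ℕ),
      ((∑ i : Fin D.rank, ((v i).val : ℤ) * D.cartan i s : ℤ) : ZMod (r ^ m)) = ev v s := fun v s => by
    simp [ev, dotProduct, lam]
  have hchar1 : ∀ v s, torChar D (cv v) s = 1 ↔ ev v s = 0 := fun v s => by
    rw [hchar, ← zpow_zero ζ, hzp, Int.cast_zero, hsumev]
  have hchar2 : ∀ v w s t, torChar D (cv v) s = torChar D (cv w) t ↔ ev v s = ev w t := fun v w s t => by
    rw [hchar, hchar, hzp, hsumev, hsumev]
  have hmulq : ∀ v, mapGL D σ (tor D (cv v)) = tor D (cv ((q : ZMod (r ^ m)) • v)) := fun v => by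
    rw [mapGL_tor]
    refine dg_congr fun s _ => ?_
    have : torChar D (fun i => Units.map (σ : K →* K) (cv v i)) s = torChar D (cv v) s ^ q := by
      simp only [torChar, ← Finset.prod_pow]
      refine Finset.prod_congr rfl fun i _ => ?_
      rw [show Units.map (σ : K →* K) (cv v i) = cv v i ^ q from Units.ext (by simp [hσ]),
        ← zpow_natCast (cv v i ^ D.cartan i s), ← zpow_natCast (cv v i), ← zpow_mul, ← zpow_mul, mul_comm]
    rw [this, hchar, hchar, ← zpow_natCast, ← zpow_mul, hzp, Int.cast_mul, hsumev, Int.cast_natCast,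
      hsumev, ev_smul, mul_comm]
  have htor_add : ∀ v w, tor D (cv (v + w)) = tor D (cv v) * tor D (cv w) := fun v w => by
    rw [tor_mul]
    refine dg_congr fun s _ => ?_
    have : torChar D (cv v * cv w) s = torChar D (cv v) s * torChar D (cv w) s := by
      simp only [torChar, Pi.mul_apply, mul_zpow, Finset.prod_mul_distrib]
    rw [this, hchar, hchar, hchar, ← zpow_add, hzp, Int.cast_add, hsumev, hsumev, hsumev, ev_add]
  have hu : IsUnit (((cartanMat D).det : ℤ) : ZMod (r ^ m)) := by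
    rcases Int.natAbs_eq (cartanMat D).det with h | h <;> rw [h]
    · rw [Int.cast_natCast, ZMod.isUnit_iff_coprime]; exact hcop m
    · rw [Int.cast_neg, Int.cast_natCast, IsUnit.neg_iff, ZMod.isUnit_iff_coprime]; exact hcop m
  have htor_inj : ∀ v w, tor D (cv v) = tor D (cv w) → v = w := fun v w h => by
    refine ev_ext hu fun j => ?_
    rw [← hchar2]
    have h2 := congrArg (fun g : GL D.Idx K => (g : Matrix D.Idx D.Idx K)
      (Sum.inr ⟨D.simple j, hC.simple_lt j.2⟩) (Sum.inr ⟨D.simple j, hC.simple_lt j.2⟩)) h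
    simp only [coe_tor hC, Cfsg.Agent.Chevalley.Root.dMat, Matrix.diagonal_apply_eq, Sum.elim_inr] at h2
    exact Units.ext h2
  have hsurj : ∀ t ∈ D.diagonalSubgroup K, (∃ j, t ^ r ^ j = 1) → ∃ v, t = tor D (cv v) := by
    rintro t ht ⟨j, hj⟩
    obtain ⟨c, rfl⟩ := (mem_H_iff hC).1 ht
    obtain ⟨cF, hcF⟩ : ∃ cF : Fin D.rank → Kˣ, cF = fun i : Fin D.rank => c i := ⟨_, rfl⟩
    have hcFt : torHom D K cF = tor D c := by rw [hcF]; exact torHom_eq c
    have h1 := pow_det_eq_one hC (c := cF ^ r ^ j) (by rw [map_pow, hcFt, hj])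
    obtain ⟨k, hk⟩ := exists_pow_eq_self_of_coprime (x := tor D c) (n := (cartanMat D).det.natAbs)
      (Nat.Coprime.coprime_dvd_right (orderOf_dvd_of_pow_eq_one hj) (hcop j))
    obtain ⟨cG, hcG⟩ : ∃ cG, cG = cF ^ ((cartanMat D).det.natAbs * k) := ⟨_, rfl⟩
    have hcGt : torHom D K cG = tor D c := by rw [hcG, map_pow, hcFt, pow_mul, hk]
    have hcGr : ∀ i, cG i ^ r ^ m = 1 := by
      intro i
      have h2 : cG i ^ r ^ j = 1 := by
        have h2' : cG ^ r ^ j = 1 := by
          rw [hcG, ← pow_mul, mul_comm, pow_mul, pow_mul, h1, one_pow]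
        exact congrFun h2' i
      obtain ⟨a, ha, hae⟩ := (Nat.dvd_prime_pow hr).1 (orderOf_dvd_of_pow_eq_one h2)
      rw [← orderOf_dvd_iff_pow_eq_one, hae]
      refine pow_dvd_pow r ?_
      rw [hm, ← hr.pow_dvd_iff_le_factorization (by omega), ← hae]
      have := orderOf_dvd_natCard (cG i)
      rwa [Nat.card_units, Nat.card_eq_fintype_card, hQ] at this
    have hex : ∀ i, ∃ a : ℕ, cG i = ζ ^ a := fun i => by
      have hp' : IsPrimitiveRoot (ζ : K) (r ^ m) := by
        rw [← hζ, ← orderOf_units]; exact IsPrimitiveRoot.orderOf _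
      obtain ⟨a, -, ha⟩ := hp'.eq_pow_of_pow_eq_one (ξ := (cG i : K))
        (by rw [← Units.val_pow_eq_pow_val, hcGr]; simp)
      exact ⟨a, Units.ext (by rw [Units.val_pow_eq_pow_val, ha])⟩
    choose a ha using hex
    refine ⟨fun i => (a i : ZMod (r ^ m)), ?_⟩
    rw [← hcGt]
    refine dg_congr fun s _ => ?_
    refine Finset.prod_congr rfl fun i hi => ?_
    rw [Finset.mem_range] at hi
    congr 1
    simp only [cv, dif_pos hi]
    unfold Cfsg.Agent.Chevalley.TorusCard.ext
    rw [dif_pos hi, ha, ← zpow_natCast, hzp, Int.cast_natCast, Int.cast_natCast,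
      ZMod.natCast_zmod_val]
  -- the twist
  have hσgG : mapGL D σ gv ∈ D.group K := map_mem_group σ hgG
  obtain ⟨n0, hn0⟩ : ∃ n0, n0 = gv⁻¹ * mapGL D σ gv := ⟨_, rfl⟩
  obtain ⟨L, hL, S, S', hS, hS', htw⟩ := exists_twist hC (hn0 ▸ mul_mem (inv_mem hgG) hσgG : n0 ∈ D.group K)
  obtain ⟨V, hV⟩ : ∃ V, V = eig (D := D) L (q : ZMod (r ^ m)) (S ∪ S') := ⟨_, rfl⟩
  have hqd1 : (q : ZMod (r ^ m)) ^ d = 1 := by
    rw [← sub_eq_zero, ← Nat.cast_pow, ← Nat.cast_one (R := ZMod (r ^ m)), ← Nat.cast_sub hqd.le,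
      ZMod.natCast_eq_zero_iff]
    exact hmd
  have hqu : IsUnit (q : ZMod (r ^ m)) := IsUnit.of_pow_eq_one hqd1 hd0.ne'
  have hσx : ∀ v, (mapGL D σ (gv * tor D (cv v) * gv⁻¹) = gv * tor D (cv v) * gv⁻¹ ↔ v ∈ V) := by
    intro v
    have e1 : mapGL D σ (gv * tor D (cv v) * gv⁻¹) =
        gv * (n0 * tor D (cv ((q : ZMod (r ^ m)) • v)) * n0⁻¹) * gv⁻¹ := by
      rw [map_mul, map_mul, map_inv, hmulq, hn0]; group
    rw [e1, mul_left_inj, mul_right_inj, htw, hV, mem_eig_iff hC hu hL]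
    simp only [hchar1, hchar2, ev_smul, Finset.mem_union]
    constructor
    · rintro ⟨h1, h2, h3⟩
      exact ⟨fun s hs => hs.elim (h1 s) fun h => hqu.mul_right_eq_zero.1 (h2 s h), h3⟩
    · rintro ⟨h1, h3⟩
      exact ⟨fun s hs => h1 s (Or.inl hs), fun s hs => by rw [h1 s (Or.inr hs), mul_zero], h3⟩
  have hexp : ∀ x : V, r ^ m • x = 0 := fun x => by
    apply Subtype.ext
    funext i
    show r ^ m • (x : Fin D.rank → ZMod (r ^ m)) i = 0
    rw [nsmul_eq_mul, ZMod.natCast_self, zero_mul]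
  have htor_pow : ∀ v (k : ℕ), tor D (cv v) ^ k = tor D (cv (k • v)) := by
    intro v k
    induction k with
    | zero =>
      rw [pow_zero, zero_smul]
      refine mul_left_cancel (a := tor D (cv 0)) ?_
      rw [mul_one, ← htor_add, add_zero]
    | succ k ih => rw [pow_succ, ih, succ_nsmul, htor_add]
  have hmem : ∀ v : V, ∃ x : D.group F, mapGL D f (x : GL D.Idx F) = gv * tor D (cv v) * gv⁻¹ := by
    intro v
    have hG' : gv * tor D (cv v) * gv⁻¹ ∈ D.group K :=
      mul_mem (mul_mem hgG (H_le_group hC (tor_mem_H hC _))) (inv_mem hgG)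
    have hord : orderOf (gv * tor D (cv v) * gv⁻¹) ∣ r ^ m := by
      rw [orderOf_dvd_iff_pow_eq_one, conj_pow, htor_pow]
      have h0 : r ^ m • (v : Fin D.rank → ZMod (r ^ m)) = 0 := congrArg Subtype.val (hexp v)
      rw [h0, ← pow_zero (tor D (cv (0 : Fin D.rank → ZMod (r ^ m)))) , ]
      rw [htor_pow, zero_smul]
      have h00 : tor D (cv (0 : Fin D.rank → ZMod (r ^ m))) = 1 := by
        refine mul_left_cancel (a := tor D (cv (0 : Fin D.rank → ZMod (r ^ m)))) ?_
        rw [mul_one, ← htor_add, add_zero]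
      rw [h00]; group
    obtain ⟨x, hx, hxe⟩ := mem_range_of_fixed hC f σ hσf hfix hdet hG' ((hσx v).2 v.2)
      (Nat.Coprime.coprime_dvd_right hord (hcop m))
    exact ⟨⟨x, hx⟩, hxe⟩
  choose X hX using hmem
  let Φ : Multiplicative V →* D.group F :=
    MonoidHom.mk' (fun v => X v.toAdd) fun v w => by
      refine Subtype.ext (mapGL_injective f ?_)
      show mapGL D f (X (v.toAdd + w.toAdd) : GL D.Idx F) = _
      rw [hX, Subgroup.coe_mul, map_mul, hX, hX, AddSubgroup.coe_add, htor_add]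
      group
  have hΦi : Function.Injective Φ := by
    intro v w h
    have h1 := congrArg (fun x : D.group F => mapGL D f (x : GL D.Idx F)) h
    simp only [Φ, MonoidHom.mk'_apply, hX] at h1
    exact Multiplicative.toAdd.injective (Subtype.ext (htor_inj _ _ (mul_left_cancel (mul_right_cancel h1))))
  have hΦP : IsPGroup r ↥Φ.range := by
    refine IsPGroup.of_surjective (?_ : IsPGroup r (Multiplicative V)) Φ.rangeRestrict
      Φ.rangeRestrict_surjective
    intro v
    exact ⟨m, by rw [← ofAdd_toAdd v, ← ofAdd_nsmul, hexp, ofAdd_zero]⟩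
  have hPle : (P : Subgroup (D.group F)) ≤ Φ.range := by
    intro y hy
    obtain ⟨k, hk⟩ := P.2 ⟨y, hy⟩
    have hyk : (y : GL D.Idx F) ^ r ^ k = 1 :=
      congrArg (fun z : (P : Subgroup (D.group F)) => ((z : D.group F) : GL D.Idx F)) hk
    obtain ⟨v, hv⟩ := hsurj _ (hgP y hy) ⟨k, by
      rw [show gv⁻¹ * mapGL D f y * gv = gv⁻¹ * mapGL D f y * gv⁻¹⁻¹ by rw [inv_inv], conj_pow,
        ← map_pow, hyk, map_one]
      group⟩
    have hye : mapGL D f (y : GL D.Idx F) = gv * tor D (cv v) * gv⁻¹ := by rw [← hv]; group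
    have hvV : v ∈ V := (hσx v).1 (by
      rw [← hye]
      exact Units.ext (Matrix.ext fun a b => hσf _))
    exact ⟨Multiplicative.ofAdd ⟨v, hvV⟩, Subtype.ext (mapGL_injective f (by
      rw [hye]; exact hX ⟨v, hvV⟩))⟩
  have heq : Φ.range = (P : Subgroup (D.group F)) := P.3 hΦP hPle
  -- homocyclic
  have hpure : ∀ x : V, r ^ (m - 1) • x = 0 → ∃ y, r • y = x := by
    intro x hx
    obtain ⟨w, hw, hwe⟩ := Lattice.pure hC hr2 hm1 hu hdet (by rw [hW]; exact hrW) hrd hL hqd1
      (fun s hs => (Finset.mem_union.1 hs).elim (hS s) (hS' s)) (v := (x : Fin D.rank → ZMod (r ^ m)))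
      (hV ▸ x.2) (congrArg Subtype.val hx)
    exact ⟨⟨w, hV ▸ hw⟩, Subtype.ext hwe⟩
  obtain ⟨b, ⟨ψ⟩⟩ := Free.exists_equiv (A := V) hm1 hexp hpure
  have hb : b = (degs.filter fun k => d ∣ k).length := by
    have h1 : Nat.card P = Nat.card (Fin b → ZMod (r ^ m)) := by
      rw [← heq, ← Nat.card_congr (MonoidHom.ofInjective hΦi).toEquiv,
        Nat.card_congr Multiplicative.toAdd, Nat.card_congr ψ.toEquiv]
    rw [hcardP, Nat.card_fun, Nat.card_zmod, Nat.card_fin, ← pow_mul] at h1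
    exact (Nat.eq_of_mul_eq_mul_left hm1 (Nat.pow_right_injective hr.two_le h1)).symm
  subst hb
  exact ⟨((MulEquiv.subgroupCongr heq).symm.trans (MonoidHom.ofInjective hΦi).symm).trans
    ((AddEquiv.toMultiplicative ψ).symm.trans (MulEquiv.piMultiplicative _))⟩

end Cfsg.Agent.SimpleFacts.AbelianSylow.Main
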